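import Groth.Agent.EquidimPt.Cut
import Groth.Agent.GenComp.GenericOpen
import Groth.Agent.S7835
import Groth.Agent.Intersect.ProperPoints
import Groth.Agent.CurveRR.Zero
import Mathlib

/-! A curve through a point over a curve in the base of a flat proper morphism. -/

set_option autoImplicit false
set_option backward.isDefEq.respectTransparency false
set_option backward.isDefEq.respectTransparency.types false

universe u

open CategoryTheory AlgebraicGeometry TopologicalSpace Topology

namespace Groth.Agent.CurveThru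

/-- The points of a curve other than its generic point are closed in the ambient space. -/
theorem isClosed_singleton_of_mem {Z : Scheme.{u}} {B : Set Z} (hBc : IsClosed B)
    (hdim : topologicalKrullDim B ≤ 1) {η : Z} (hη : IsGenericPoint η B) {z : Z} (hz : z ∈ B) (hne : η ≠ z) :
    IsClosed ({z} : Set Z) := by
  have h : (⟨η, hη.mem⟩ : B) ⤳ ⟨z, hz⟩ :=
    IsInducing.subtypeVal.specializes_iff.mp (hη.specializes hz)
  have h1 := S7835.isClosed_of_dim_one hdim h (fun e ↦ hne (congrArg Subtype.val e))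
  have h2 := hBc.isClosedEmbedding_subtypeVal.isClosedMap _ h1
  rwa [Set.image_singleton] at h2

/-- If every strict specialisation of `w` towards `q` lies over the closed point, then `w` covers `q`. -/
theorem covered_of_maximal {Y Z : Scheme.{u}} [IsLocallyNoetherian Y] (f : Y ⟶ Z) {w q : Y} (hwq : w ⤳ q)
    (hne : f w ≠ f q) (hmax : ∀ z, w ⤳ z → z ⤳ q → z ≠ w → f z = f q) :
    ∀ z, w ⤳ z → z ⤳ q → z = w ∨ z = q := by
  let A := Y.presheaf.stalk q
  let R := Z.presheaf.stalk (f q)
  let φ : R →+* A := (f.stalkMap q).hom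
  have hnat : ∀ P : PrimeSpectrum A, f (Y.fromSpecStalk q P) = Z.fromSpecStalk (f q) (PrimeSpectrum.comap φ P) :=
    fun P ↦ by
      rw [← Scheme.Hom.comp_apply, ← Scheme.SpecMap_stalkMap_fromSpecStalk, Scheme.Hom.comp_apply]
      rfl
  have hrange : ∀ z, z ⤳ q → ∃ P : PrimeSpectrum A, Y.fromSpecStalk q P = z := fun z hz ↦ by
    have : z ∈ Set.range (Y.fromSpecStalk q) := by
      rw [Scheme.range_fromSpecStalk]
      exact hz
    exact this
  have hinj := (Y.fromSpecStalk q).isEmbedding
  obtain ⟨P, hP⟩ := hrange w hwq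
  intro z hwz hzq
  obtain ⟨Q, hQ⟩ := hrange z hzq
  have hPQ : P.asIdeal ≤ Q.asIdeal :=
    (PrimeSpectrum.le_iff_specializes P Q).mpr (hinj.isInducing.specializes_iff.mp (hP ▸ hQ ▸ hwz))
  have hPne : PrimeSpectrum.comap φ P ≠ IsLocalRing.closedPoint R := fun h ↦ hne (by
    rw [← hP, hnat, h]
    exact Scheme.fromSpecStalk_closedPoint)
  obtain ⟨t, htm, htP⟩ : ∃ t ∈ IsLocalRing.maximalIdeal R, t ∉ P.asIdeal.comap φ := by
    by_contra! h
    exact hPne (PrimeSpectrum.ext (le_antisymm (IsLocalRing.le_maximalIdeal (PrimeSpectrum.comap φ P).isPrime.ne_top) h))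
  have htQ : ∀ S : PrimeSpectrum A, P.asIdeal ≤ S.asIdeal → S ≠ P → φ t ∈ S.asIdeal := by
    intro S hPS hS
    have h1 : f (Y.fromSpecStalk q S) = f q := hmax _
      (hP ▸ ((PrimeSpectrum.le_iff_specializes P S).mp hPS).map (Y.fromSpecStalk q).continuous)
      (by
        have : Y.fromSpecStalk q S ∈ Set.range (Y.fromSpecStalk q) := ⟨S, rfl⟩
        rwa [Scheme.range_fromSpecStalk] at this)
      (fun e ↦ hS (hinj.injective (e.trans hP.symm)))
    rw [hnat] at h1
    have h2 : PrimeSpectrum.comap φ S = IsLocalRing.closedPoint R :=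
      (Z.fromSpecStalk (f q)).isEmbedding.injective (h1.trans Scheme.fromSpecStalk_closedPoint.symm)
    show t ∈ (PrimeSpectrum.comap φ S).asIdeal
    rw [h2]
    exact htm
  let π := Ideal.Quotient.mk P.asIdeal
  have hπ : Function.Surjective π := Ideal.Quotient.mk_surjective
  have hback : ∀ T : PrimeSpectrum (A ⧸ P.asIdeal), P.asIdeal ≤ (PrimeSpectrum.comap π T).asIdeal :=
    fun T a ha ↦ by
      show π a ∈ T.asIdeal
      rw [Ideal.Quotient.eq_zero_iff_mem.mpr ha]
      exact zero_mem _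
  let η : PrimeSpectrum (A ⧸ P.asIdeal) := ⟨⊥, Ideal.isPrime_bot⟩
  have hcη : PrimeSpectrum.comap π η = P := PrimeSpectrum.ext (Ideal.mk_ker (I := P.asIdeal))
  have ho : IsOpen ({η} : Set (PrimeSpectrum (A ⧸ P.asIdeal))) := by
    convert (PrimeSpectrum.basicOpen (π (φ t))).isOpen using 1
    ext T
    constructor
    · rintro rfl h
      exact htP (show φ t ∈ P.asIdeal from Ideal.Quotient.eq_zero_iff_mem.mp h)
    · intro hT
      by_contra hTη
      exact hT (htQ _ (hback T) fun e ↦ hTη
        (PrimeSpectrum.comap_injective_of_surjective π hπ (e.trans hcη.symm)))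
  obtain ⟨-, hfm⟩ := GenComp.finite_and_maximal η
    (fun T ↦ (PrimeSpectrum.le_iff_specializes η T).mp bot_le) ho
  have hlift : ∀ S : PrimeSpectrum A, P.asIdeal ≤ S.asIdeal →
      ∃ T : PrimeSpectrum (A ⧸ P.asIdeal), PrimeSpectrum.comap π T = S := fun S hS ↦ by
    have : S ∈ Set.range (PrimeSpectrum.comap π) := by
      rw [range_comap_of_surjective _ π hπ, PrimeSpectrum.mem_zeroLocus]
      intro a ha
      exact hS (Ideal.mk_ker.le ha)
    exact this
  obtain ⟨T, hT⟩ := hlift Q hPQ
  obtain ⟨M, hM⟩ := hlift (IsLocalRing.closedPoint A) (IsLocalRing.le_maximalIdeal P.isPrime.ne_top)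
  by_cases hTη : T = η
  · exact Or.inl (by rw [← hQ, ← hP, ← hT, hTη, hcη])
  · refine Or.inr ?_
    have hTM : T.asIdeal ≤ M.asIdeal := fun a ha ↦ by
      obtain ⟨a, rfl⟩ := hπ a
      have h1 : a ∈ Q.asIdeal := by rw [← hT]; exact ha
      have h2 : a ∈ (PrimeSpectrum.comap π M).asIdeal := by
        rw [hM]
        exact IsLocalRing.le_maximalIdeal Q.isPrime.ne_top h1
      exact h2
    rw [← hQ, ← hT, hfm T M hTη ((PrimeSpectrum.le_iff_specializes T M).mp hTM), hM,
      Scheme.fromSpecStalk_closedPoint]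

variable {k : Type u} [Field k] {Y Z : Scheme.{u}}

/-- Through every closed point over a curve there is a curve finite over it. -/
theorem exists_curve (g : Z ⟶ Spec (CommRingCat.of k)) [IsSeparated g] (f : Y ⟶ Z) [IsProper (f ≫ g)] [Flat f]
    (B : Set Z) (hBc : IsClosed B) (hBi : IsIrreducible B) (hBd : topologicalKrullDim B = 1) (p : Z) (hp : p ∈ B)
    (hpc : IsClosed ({p} : Set Z)) (q : Y) (hqc : IsClosed ({q} : Set Y)) (hq : f q = p) :
    ∃ B' : Set Y, IsClosed B' ∧ IsIrreducible B' ∧ q ∈ B' ∧ f.base '' B' = B ∧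
      ∀ z : Z, (B' ∩ f.base ⁻¹' {z}).Finite := by
  haveI : IsProper f := IsProper.of_comp f g
  haveI : LocallyOfFiniteType (f ≫ g) := inferInstance
  haveI : IsLocallyNoetherian Y := LocallyOfFiniteType.isLocallyNoetherian (f ≫ g)
  obtain ⟨η, hη⟩ := QuasiSober.sober hBi hBc
  have hBeq : closure ({η} : Set Z) = B := hη
  have hηp : η ≠ p := by
    rintro rfl
    rw [hpc.closure_eq] at hBeq
    have hs : ∀ a b : B, a = b := fun a b ↦ Subtype.ext
      ((hBeq.ge a.2 : (a : Z) = η).trans (hBeq.ge b.2 : (b : Z) = η).symm)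
    have h0 : topologicalKrullDim B ≤ 0 := Intersect.dim_le_zero_of_closedPoints hBc fun z hz ↦ by
      rw [(hBeq.ge hz : z = η)]
      exact hpc
    rw [hBd] at h0
    exact absurd h0 (by norm_num)
  have hcl : ∀ z ∈ B, η ≠ z → IsClosed ({z} : Set Z) := fun z hz hne ↦
    isClosed_singleton_of_mem hBc hBd.le hη hz hne
  obtain ⟨y, hyq, hy⟩ := Flat.generalizingMap f (a := q) (show η ⤳ f q from hq ▸ hη.specializes hp)
  let S : Set (Ideal (Y.presheaf.stalk q)) :=
    {I | ∃ P : PrimeSpectrum (Y.presheaf.stalk q), P.asIdeal = I ∧ f (Y.fromSpecStalk q P) = η}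
  have hSne : S.Nonempty := by
    have : y ∈ Set.range (Y.fromSpecStalk q) := by
      rw [Scheme.range_fromSpecStalk]
      exact hyq
    obtain ⟨P, hP⟩ := this
    exact ⟨_, P, rfl, by rw [hP, hy]⟩
  obtain ⟨_, ⟨P, rfl, hPη⟩, hPmax⟩ := set_has_maximal_iff_noetherian.mpr inferInstance S hSne
  let w := Y.fromSpecStalk q P
  have hwq : w ⤳ q := by
    have : w ∈ Set.range (Y.fromSpecStalk q) := ⟨P, rfl⟩
    rwa [Scheme.range_fromSpecStalk] at this
  have hfw : f w = η := hPη
  have hmax : ∀ z, w ⤳ z → z ⤳ q → z ≠ w → f z = f q := by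
    intro z hwz hzq hzw
    have : z ∈ Set.range (Y.fromSpecStalk q) := by
      rw [Scheme.range_fromSpecStalk]
      exact hzq
    obtain ⟨Q, rfl⟩ := this
    have hne : η ≠ f (Y.fromSpecStalk q Q) := fun e ↦ hPmax Q.asIdeal ⟨Q, rfl, e.symm⟩
      (lt_of_le_of_ne ((PrimeSpectrum.le_iff_specializes P Q).mpr
        ((Y.fromSpecStalk q).isEmbedding.isInducing.specializes_iff.mp hwz))
        (fun h ↦ hzw (congrArg (Y.fromSpecStalk q) (PrimeSpectrum.ext h.symm))))
    have hmem : f (Y.fromSpecStalk q Q) ∈ B :=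
      (hfw ▸ hwz.map f.continuous : η ⤳ _).mem_closed hBc hη.mem
    exact ((hzq.map f.continuous).mem_closed (hcl _ hmem hne) (Set.mem_singleton _)).symm
  have hwne : f w ≠ f q := by rw [hfw, hq]; exact hηp
  have hcov := covered_of_maximal f hwq hwne hmax
  have hBimg : f.base '' closure {w} = B := by
    refine le_antisymm ?_ ?_
    · rintro _ ⟨a, ha, rfl⟩
      exact ((specializes_iff_mem_closure.mpr ha).map f.continuous).mem_closed hBc (hfw ▸ hη.mem)
    · rw [← hBeq]
      exact closure_minimal (Set.singleton_subset_iff.mpr ⟨w, subset_closure rfl, hfw⟩)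
        (f.isClosedMap _ isClosed_closure)
  have hlink : ∀ {a b : Y}, (f ≫ g) a = (f ≫ g) b := fun {a b} ↦ Subsingleton.elim _ _
  have hshort : ∀ a b : Y, w ⤳ a → a ⤳ b → w ≠ a → a ≠ b → False := by
    intro a b hwa hab hne1 hne2
    have hch : Unibranch.HasChain (f ≫ g) (closure {w}) ((f ≫ g) w) (1 + 1) := by
      refine ⟨![w, a, b], fun i ↦ ⟨?_, hlink⟩, fun i ↦ ?_⟩
      · fin_cases i
        · exact subset_closure rfl
        · exact specializes_iff_mem_closure.mp hwa
        · exact specializes_iff_mem_closure.mp (hwa.trans hab)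
      · fin_cases i
        · exact ⟨hwa, hne1⟩
        · exact ⟨hab, hne2⟩
    obtain ⟨c, hc, hc'⟩ := (EquidimPt.hasChain_step (f ≫ g) hwq (fun e ↦ hwne (by rw [e])) hcov hch).1
    rw [hqc.closure_eq] at hc
    exact (hc' 0).2 ((hc _).1.trans (hc _).1.symm)
  refine ⟨closure {w}, isClosed_closure, isIrreducible_singleton.closure,
    specializes_iff_mem_closure.mp hwq, hBimg, fun z ↦ ?_⟩
  rcases eq_or_ne η z with rfl | hne
  · refine (Set.finite_singleton w).subset fun a ha ↦ ?_
    by_contra hne'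
    have hwa : w ⤳ a := specializes_iff_mem_closure.mpr ha.1
    obtain ⟨b, hab, hb⟩ : p ∈ f.base '' closure {a} :=
      closure_minimal (Set.singleton_subset_iff.mpr
        (show η ∈ f.base '' closure {a} from ⟨a, subset_closure (Set.mem_singleton a), ha.2⟩))
        (f.isClosedMap _ isClosed_closure) (hBeq.ge hp)
    exact hshort a b hwa (specializes_iff_mem_closure.mpr hab) (Ne.symm hne')
      fun e ↦ hηp (ha.2.symm.trans ((congrArg f e).trans hb))
  by_cases hz : z ∈ B
  · letI : Y.Over (Spec (CommRingCat.of k)) := ⟨f ≫ g⟩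
    haveI : IsProper (Y ↘ Spec (CommRingCat.of k)) := ‹IsProper (f ≫ g)›
    have hcF : IsClosed (closure {w} ∩ f.base ⁻¹' {z}) :=
      isClosed_closure.inter ((hcl z hz hne).preimage f.continuous)
    refine CurveRR.finite_of_dim_le_zero (k := k) hcF (Intersect.dim_le_zero_of_closedPoints hcF fun a ha ↦ ?_)
    refine closure_subset_iff_isClosed.mp fun b hb ↦ ?_
    by_contra hba
    exact hshort a b (specializes_iff_mem_closure.mpr ha.1) (specializes_iff_mem_closure.mpr hb)
      (fun e ↦ hne ((hfw.symm.trans (congrArg f e)).trans ha.2)) (Ne.symm hba)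
  · refine Set.finite_empty.subset fun a ha ↦ (hz ?_).elim
    rw [← hBimg]
    exact ⟨a, ha.1, ha.2⟩

end Groth.Agent.CurveThru
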